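import Mathlib
import Cfsg.Agent.ClassicalGeometry.Discriminant
import Cfsg.Agent.ClassicalGeometry.SympIso
set_option linter.all false

-- part: H194/NilForm
section
/-!
# Nilpotent maps adapted to an `ε`-hermitian form

`Pair σ ε η f N` : `f` is a non-degenerate `ε`-hermitian form (linear in the first, `σ`-linear in the second
variable) and `N` a linear map with `f (N x) y = η * f x (N y)`.

* `Pair.normalize` : normalisation of a family of vectors generating the blocks of maximal size;
* `IsNB f N ℓ S x` : `x` is a normal basis: vectors `x a` generating Jordan blocks of size `ℓ a`, with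
  `f (x a) (N ^ j (x b)) = S a b` for `j + 1 = ℓ b` and `0` otherwise;
* `exists_nb` : a nilpotent `N` has a normal basis.
-/

set_option autoImplicit false

namespace Cfsg.Agent.H194.NilForm

open Module

/-- A non-degenerate `ε`-hermitian form `f` and a map `N` with `f (N x) y = η * f x (N y)`. -/
structure Pair {F : Type*} [Field F] {V : Type*} [AddCommGroup V] [Module F V]
    (σ : F →+* F) (ε η : F) (f : V → V → F) (N : V →ₗ[F] V) : Prop where
  add_left : ∀ x x' y, f (x + x') y = f x y + f x' y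
  smul_left : ∀ (c : F) x y, f (c • x) y = c * f x y
  symm : ∀ x y, f y x = ε * σ (f x y)
  adj : ∀ x y, f (N x) y = η * f x (N y)
  nondeg : ∀ x, (∀ y, f x y = 0) → x = 0

/-- The scalars: `σ` is an involution (or the identity), `ε` has norm one and `τ` trace one. -/
structure Sc {F : Type*} [Field F] (σ : F →+* F) (ε η τ : F) : Prop where
  invol : ∀ a, σ (σ a) = a
  eps : ε * σ ε = 1
  eta : η ≠ 0
  tau : τ + σ τ = 1

section Basic

variable {F : Type*} [Field F] {V : Type*} [AddCommGroup V] [Module F V]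
  {σ : F →+* F} {ε η τ : F} {f : V → V → F} {N : V →ₗ[F] V}

theorem Sc.eps_ne {σ : F →+* F} {ε η τ : F} (h : Sc σ ε η τ) : ε ≠ 0 :=
  left_ne_zero_of_mul_eq_one h.eps

namespace Pair

theorem zero_left (h : Pair σ ε η f N) (y : V) : f 0 y = 0 := by
  have := h.smul_left 0 0 y
  rwa [zero_smul, zero_mul] at this

theorem zero_right (h : Pair σ ε η f N) (y : V) : f y 0 = 0 := by
  rw [h.symm 0 y, h.zero_left, map_zero, mul_zero]

theorem neg_left (h : Pair σ ε η f N) (x y : V) : f (-x) y = - f x y := by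
  have := h.smul_left (-1) x y
  rwa [neg_one_smul, neg_one_mul] at this

theorem sub_left (h : Pair σ ε η f N) (x x' y : V) : f (x - x') y = f x y - f x' y := by
  rw [sub_eq_add_neg, h.add_left, h.neg_left, sub_eq_add_neg]

theorem add_right (h : Pair σ ε η f N) (x y y' : V) : f x (y + y') = f x y + f x y' := by
  rw [h.symm (y + y') x, h.symm y x, h.symm y' x, h.add_left, map_add, mul_add]

theorem smul_right (h : Pair σ ε η f N) (c : F) (x y : V) : f x (c • y) = σ c * f x y := by
  rw [h.symm (c • y) x, h.symm y x, h.smul_left, map_mul]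
  ring

theorem sum_left (h : Pair σ ε η f N) {ι : Type*} (s : Finset ι) (x : ι → V) (y : V) :
    f (∑ i ∈ s, x i) y = ∑ i ∈ s, f (x i) y := by
  classical
  induction s using Finset.induction_on with
  | empty => simp [h.zero_left]
  | insert a s ha ih => rw [Finset.sum_insert ha, Finset.sum_insert ha, h.add_left, ih]

theorem sum_right (h : Pair σ ε η f N) {ι : Type*} (s : Finset ι) (x : V) (y : ι → V) :
    f x (∑ i ∈ s, y i) = ∑ i ∈ s, f x (y i) := by
  classical
  induction s using Finset.induction_on with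
  | empty => simp [h.zero_right]
  | insert a s ha ih => rw [Finset.sum_insert ha, Finset.sum_insert ha, h.add_right, ih]

theorem adj_pow (h : Pair σ ε η f N) (j : ℕ) (x y : V) : f ((N ^ j) x) y = η ^ j * f x ((N ^ j) y) := by
  induction j generalizing x y with
  | zero => simp
  | succ j ih =>
    rw [pow_succ', Module.End.mul_apply, h.adj, ih, ← Module.End.mul_apply, ← pow_succ, ← pow_succ', pow_succ']
    ring

theorem symm_pow (h : Pair σ ε η f N) (j : ℕ) (x y : V) :
    f y ((N ^ j) x) = ε * σ (η ^ j) * σ (f x ((N ^ j) y)) := by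
  rw [h.symm ((N ^ j) x) y, h.adj_pow, map_mul, mul_assoc]

/-- the same form, restricted to an invariant subspace -/
theorem restrict (h : Pair σ ε η f N) (U : Submodule F V) (hU : ∀ x ∈ U, N x ∈ U)
    (hnd : ∀ x ∈ U, (∀ y ∈ U, f x y = 0) → x = 0) :
    Pair σ ε η (fun x y : U => f x y) (N.restrict hU) where
  add_left _ _ _ := h.add_left _ _ _
  smul_left _ _ _ := h.smul_left _ _ _
  symm _ _ := h.symm _ _
  adj _ _ := h.adj _ _
  nondeg x hx := Subtype.ext (hnd x x.2 fun y hy => hx ⟨y, hy⟩)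

end Pair

/-- the Gram matrix of the form `f x (N ^ j y)` -/
def gram (f : V → V → F) (N : V →ₗ[F] V) {ι : Type*} (x : ι → V) (j : ℕ) : Matrix ι ι F :=
  Matrix.of fun a b => f (x a) ((N ^ j) (x b))

theorem gram_apply {ι : Type*} (x : ι → V) (j : ℕ) (a b : ι) : gram f N x j a b = f (x a) ((N ^ j) (x b)) := rfl

theorem Pair.gram_star (h : Pair σ ε η f N) {ι : Type*} (x : ι → V) (j : ℕ) :
    (gram f N x j).transpose = (ε * σ (η ^ j)) • (gram f N x j).map σ := by
  ext a b
  rw [Matrix.transpose_apply, gram_apply, Matrix.smul_apply, Matrix.map_apply, gram_apply, smul_eq_mul, h.symm_pow]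

/-- the algebraic identity of the normalisation -/
theorem solve {ι : Type*} [Fintype ι] [DecidableEq ι] (hs : Sc σ ε η τ) {k j s : ℕ} (hk : j + s = k)
    {S T G : Matrix ι ι F} (hTS : T * S = 1) (hST : S * T = 1)
    (hS : S.transpose = (ε * σ (η ^ k)) • S.map σ) (hG : G.transpose = (ε * σ (η ^ j)) • G.map σ) :
    ∃ C : Matrix ι ι F, G + S * (C.map σ).transpose + (η ^ s) • (C * S) = 0 := by
  have he := hs.eps_ne
  have hη : η ≠ 0 := hs.eta
  have hση : ∀ n, σ (η ^ n) ≠ 0 := fun n => (map_ne_zero σ).2 (pow_ne_zero n hη)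
  have hmul : ∀ A B : Matrix ι ι F, (A * B).map σ = A.map σ * B.map σ := fun A B => Matrix.map_mul
  have hT : (T.map σ).transpose = (ε * σ (η ^ k)) • T := by
    have h1 : (T.map σ).transpose * (S.map σ).transpose = 1 := by
      rw [← Matrix.transpose_mul, ← hmul, hST]
      simp
    have h2 : (S.map σ).transpose = (ε * σ (η ^ k))⁻¹ • S := by
      have h3 := congrArg Matrix.transpose hS
      rw [Matrix.transpose_transpose, Matrix.transpose_smul] at h3
      rw [eq_inv_smul_iff₀ (mul_ne_zero he (hση k))]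
      exact h3.symm
    rw [h2, Matrix.mul_smul] at h1
    have h4 : (T.map σ).transpose * S = (ε * σ (η ^ k)) • 1 := by
      rw [← h1, smul_smul, mul_inv_cancel₀ (mul_ne_zero he (hση k)), one_smul]
    calc (T.map σ).transpose = (T.map σ).transpose * (S * T) := by rw [hST, Matrix.mul_one]
      _ = ((T.map σ).transpose * S) * T := by rw [Matrix.mul_assoc]
      _ = _ := by rw [h4, Matrix.smul_mul, Matrix.one_mul]
  have hG' : (G.map σ).transpose = (ε * σ (η ^ j))⁻¹ • G := by
    have h3 := congrArg Matrix.transpose hG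
    rw [Matrix.transpose_transpose, Matrix.transpose_smul] at h3
    rw [eq_inv_smul_iff₀ (mul_ne_zero he (hση j))]
    exact h3.symm
  refine ⟨(-(τ * (η ^ s)⁻¹)) • (G * T), ?_⟩
  have h1 : (((-(τ * (η ^ s)⁻¹)) • (G * T)).map σ).transpose =
      σ (-(τ * (η ^ s)⁻¹)) • ((T.map σ).transpose * (G.map σ).transpose) := by
    rw [← Matrix.transpose_mul, ← hmul, ← Matrix.transpose_smul]
    congr 1
    ext a b
    simp only [Matrix.map_apply, Matrix.smul_apply, smul_eq_mul, map_mul]
  rw [h1, hT, hG', Matrix.smul_mul, Matrix.mul_smul T, Matrix.mul_smul, Matrix.mul_smul, Matrix.mul_smul,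
    ← Matrix.mul_assoc S T G, hST, Matrix.one_mul, Matrix.smul_mul, Matrix.mul_assoc, hTS, Matrix.mul_one,
    smul_smul, smul_smul, smul_smul]
  have h2 : σ (-(τ * (η ^ s)⁻¹)) * (ε * σ (η ^ k)) * (ε * σ (η ^ j))⁻¹ = - σ τ := by
    rw [map_neg, map_mul, map_inv₀, ← hk, pow_add, map_mul]
    have := hση j
    have := hση s
    field_simp
  have h3 : η ^ s * -(τ * (η ^ s)⁻¹) = - τ := by
    have := pow_ne_zero s hη
    field_simp
  rw [h2, h3]
  have h4 : (G + (-σ τ) • G + (-τ) • G) = (1 + -σ τ + -τ) • G := by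
    rw [add_smul, add_smul, one_smul]
  rw [h4]
  have h5 : (1 : F) + -σ τ + -τ = 0 := by
    rw [← hs.tau]; ring
  rw [h5, zero_smul]

/-- **Normalisation.** -/
theorem Pair.normalize (h : Pair σ ε η f N) (hs : Sc σ ε η τ) {ι : Type*} [Fintype ι] [DecidableEq ι] {k : ℕ}
    (hN : N ^ (k + 1) = 0) (w : ι → V) {T : Matrix ι ι F} (hTS : T * gram f N w k = 1)
    (hST : gram f N w k * T = 1) :
    ∃ x : ι → V, (∀ a, (N ^ k) (x a) = (N ^ k) (w a)) ∧ ∀ j < k, gram f N x j = 0 := by
  have hpow : ∀ l, k < l → N ^ l = 0 := by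
    intro l hl
    obtain ⟨m, rfl⟩ := Nat.exists_eq_add_of_lt hl
    rw [show k + m + 1 = k + 1 + m by omega, pow_add, hN, zero_mul]
  -- the top Gram matrix only depends on `N ^ k x`
  have htop : ∀ x : ι → V, (∀ a, (N ^ k) (x a) = (N ^ k) (w a)) → gram f N x k = gram f N w k := by
    intro x hx
    ext a b
    rw [gram_apply, gram_apply, hx b]
    have h1 := h.adj_pow k (x a) (w b)
    have h2 := h.adj_pow k (w a) (w b)
    rw [hx a, h2] at h1
    exact (mul_left_cancel₀ (pow_ne_zero k hs.eta) h1).symm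
  have key : ∀ i ≤ k, ∃ x : ι → V, (∀ a, (N ^ k) (x a) = (N ^ k) (w a)) ∧
      ∀ j, k ≤ j + i → j < k → gram f N x j = 0 := by
    intro i
    induction i with
    | zero =>
      intro _
      exact ⟨w, fun _ => rfl, fun j h1 h2 => by omega⟩
    | succ i ih =>
      intro hi
      obtain ⟨x, hx, hx0⟩ := ih (by omega)
      obtain ⟨j, hj⟩ : ∃ j, j + (i + 1) = k := ⟨k - (i + 1), by omega⟩
      have hSx := htop x hx
      obtain ⟨C, hC⟩ := solve hs hj (S := gram f N x k) (T := T) (G := gram f N x j)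
        (by rw [hSx, hTS]) (by rw [hSx, hST]) (h.gram_star x k) (h.gram_star x j)
      refine ⟨fun a => x a + ∑ b, C a b • (N ^ (i + 1)) (x b), ?_, ?_⟩
      · intro a
        rw [map_add, map_sum, hx]
        have : ∑ b, (N ^ k) (C a b • (N ^ (i + 1)) (x b)) = 0 := by
          refine Finset.sum_eq_zero fun b _ => ?_
          rw [map_smul, ← Module.End.mul_apply, ← pow_add, hpow _ (by omega), LinearMap.zero_apply, smul_zero]
        rw [this, add_zero]
      · intro l hl hlk
        have hexp : ∀ a b, f (x a + ∑ c, C a c • (N ^ (i + 1)) (x c))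
            ((N ^ l) (x b + ∑ c, C b c • (N ^ (i + 1)) (x c))) =
            gram f N x l a b + (gram f N x (l + (i + 1)) * (C.map σ).transpose) a b +
              (η ^ (i + 1)) * (C * gram f N x (l + (i + 1))) a b := by
          intro a b
          rw [map_add, map_sum, h.add_left, h.add_right, h.add_right, h.sum_left, h.sum_left, h.sum_right,
            Matrix.mul_apply, Matrix.mul_apply]
          have e1 : ∀ c, f (x a) ((N ^ l) (C b c • (N ^ (i + 1)) (x c))) =
              gram f N x (l + (i + 1)) a c * (C.map σ).transpose c b := by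
            intro c
            rw [map_smul, h.smul_right, ← Module.End.mul_apply, ← pow_add, gram_apply, Matrix.transpose_apply,
              Matrix.map_apply, mul_comm]
          have e2 : ∀ c, f (C a c • (N ^ (i + 1)) (x c)) ((N ^ l) (x b)) =
              η ^ (i + 1) * (C a c * gram f N x (l + (i + 1)) c b) := by
            intro c
            rw [h.smul_left, h.adj_pow, ← Module.End.mul_apply, ← pow_add, gram_apply, Nat.add_comm (i + 1) l]
            ring
          have e3 : ∀ c, f (C a c • (N ^ (i + 1)) (x c)) (∑ d, (N ^ l) (C b d • (N ^ (i + 1)) (x d))) = 0 := by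
            intro c
            rw [h.sum_right]
            refine Finset.sum_eq_zero fun d _ => ?_
            rw [h.smul_left, h.adj_pow, map_smul, map_smul, h.smul_right, ← Module.End.mul_apply,
              ← Module.End.mul_apply, ← pow_add, ← pow_add, hpow _ (by omega), LinearMap.zero_apply, h.zero_right]
            ring
          simp only [e1, e2, e3, Finset.sum_const_zero, add_zero, gram_apply, ← Finset.mul_sum]
        ext a b
        rw [gram_apply, Matrix.zero_apply, hexp]
        rcases Nat.lt_or_ge j l with hjl | hjl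
        · -- `l > j` : nothing changes
          have h1 : gram f N x (l + (i + 1)) = 0 := by
            ext c d
            rw [gram_apply, hpow _ (by omega), LinearMap.zero_apply, h.zero_right, Matrix.zero_apply]
          rw [h1, hx0 l (by omega) hlk]
          simp
        · have hjl' : l = j := by omega
          subst hjl'
          rw [hj]
          have h2 := congrFun (congrFun hC a) b
          rw [Matrix.add_apply, Matrix.add_apply, Matrix.smul_apply, smul_eq_mul, Matrix.zero_apply] at h2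
          exact h2
  obtain ⟨x, hx, hx0⟩ := key k le_rfl
  exact ⟨x, hx, fun j hj => hx0 j (by omega) hj⟩

/-- A normal basis of `(V, f, N)`: the vector `x a` generates a Jordan block of size `ℓ a`. -/
structure IsNB (f : V → V → F) (N : V →ₗ[F] V) {ι : Type*} [Fintype ι] [DecidableEq ι] (ℓ : ι → ℕ)
    (S : Matrix ι ι F) (x : ι → V) : Prop where
  pos : ∀ a, 0 < ℓ a
  pow : ∀ a, (N ^ ℓ a) (x a) = 0
  form : ∀ a b j, f (x a) ((N ^ j) (x b)) = if j + 1 = ℓ b then S a b else 0
  blk : ∀ a b, ℓ a ≠ ℓ b → S a b = 0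
  inv : IsUnit S
  span : Submodule.span F (Set.range fun p : (a : ι) × Fin (ℓ a) => (N ^ (p.2 : ℕ)) (x p.1)) = ⊤

theorem restrict_pow {U : Submodule F V} (hU : ∀ x ∈ U, N x ∈ U) (k : ℕ) (v : U) :
    (((N.restrict hU) ^ k) v : V) = (N ^ k) v := by
  induction k generalizing v with
  | zero => simp
  | succ k ih => rw [pow_succ, pow_succ, Module.End.mul_apply, Module.End.mul_apply, ih, LinearMap.coe_restrict_apply]

theorem pow_eq_zero_of_lt {k : ℕ} (hN : N ^ k = 0) {l : ℕ} (hl : k ≤ l) : N ^ l = 0 := by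
  obtain ⟨m, rfl⟩ := Nat.exists_eq_add_of_le hl
  rw [pow_add, hN, zero_mul]

end Basic

section Exists

variable {F : Type*} [Field F] {σ : F →+* F} {ε η τ : F}

universe u

/-- **Existence of normal bases.** -/
theorem exists_nb (hs : Sc σ ε η τ) (k : ℕ) : ∀ {V : Type u} [AddCommGroup V] [Module F V]
    [FiniteDimensional F V] {f : V → V → F} {N : V →ₗ[F] V}, Pair σ ε η f N → N ^ k = 0 →
    ∃ (ι : Type) (_ : Fintype ι) (_ : DecidableEq ι) (ℓ : ι → ℕ) (S : Matrix ι ι F) (x : ι → V),
      IsNB f N ℓ S x ∧ ∀ a, ℓ a ≤ k := by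
  classical
  induction k with
  | zero =>
    intro V _ _ _ f N h hN
    have h0 : ∀ v : V, v = 0 := by
      intro v
      have := congrArg (fun T : V →ₗ[F] V => T v) hN
      simpa using this
    refine ⟨Fin 0, inferInstance, inferInstance, fun _ => 0, 1, fun a => a.elim0, ⟨fun a => a.elim0,
      fun a => a.elim0, fun a => a.elim0, fun a => a.elim0, isUnit_one, ?_⟩, fun a => a.elim0⟩
    rw [eq_top_iff]
    intro v _
    rw [h0 v]
    exact zero_mem _
  | succ k ih =>
    intro V _ _ _ f N h hN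
    -- a complement of the kernel of `N ^ k`
    obtain ⟨W, hW⟩ := Submodule.exists_isCompl (LinearMap.ker (N ^ k))
    let b := Module.finBasis F W
    let w : Fin (finrank F W) → V := fun a => (b a : V)
    have hker : ∀ v : V, (∀ z, f z ((N ^ k) v) = 0) → (N ^ k) v = 0 := by
      intro v hv
      apply h.nondeg
      intro z
      rw [h.symm z, hv, map_zero, mul_zero]
    have hdec : ∀ z : V, ∃ c : Fin (finrank F W) → F, ∃ u, (N ^ k) u = 0 ∧ z = ∑ a, c a • w a + u := by
      intro z
      have hz : z ∈ LinearMap.ker (N ^ k) ⊔ W := by rw [hW.sup_eq_top]; trivial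
      obtain ⟨u, hu, y, hy, rfl⟩ := Submodule.mem_sup.1 hz
      refine ⟨fun a => b.repr ⟨y, hy⟩ a, u, hu, ?_⟩
      have h1 := congrArg (Subtype.val) (b.sum_repr ⟨y, hy⟩)
      rw [AddSubmonoidClass.coe_finsetSum] at h1
      rw [add_comm]
      congr 1
      exact h1.symm
    have hfk : ∀ u v : V, (N ^ k) u = 0 → f u ((N ^ k) v) = 0 := by
      intro u v hu
      have h1 := h.adj_pow k u v
      rw [hu, h.zero_left] at h1
      exact (mul_eq_zero.1 h1.symm).resolve_left (pow_ne_zero k hs.eta)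
    have hunit : IsUnit (gram f N w k) := by
      rw [← Matrix.vecMul_injective_iff_isUnit]
      suffices H : ∀ c, Matrix.vecMul c (gram f N w k) = 0 → c = 0 from
        fun c c' hcc => sub_eq_zero.1 (H _ (by rw [Matrix.sub_vecMul]; exact sub_eq_zero.2 hcc))
      intro c hc
      have h1 : ∀ d, f (∑ a, c a • w a) ((N ^ k) (w d)) = 0 := by
        intro d
        have h2 := congrFun hc d
        rw [Matrix.vecMul, dotProduct, Pi.zero_apply] at h2
        rw [h.sum_left, ← h2]
        exact Finset.sum_congr rfl fun a _ => by rw [h.smul_left, gram_apply]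
      have h2 : (N ^ k) (∑ a, c a • w a) = 0 := by
        apply hker
        intro z
        rw [h.symm_pow]
        obtain ⟨c', u, hu, rfl⟩ := hdec z
        have h3 : f (∑ a, c a • w a) ((N ^ k) (∑ a, c' a • w a + u)) = 0 := by
          rw [map_add, hu, add_zero, map_sum, h.sum_right]
          exact Finset.sum_eq_zero fun d _ => by rw [map_smul, h.smul_right, h1, mul_zero]
        rw [h3, map_zero, mul_zero]
      have h3 : (∑ a, c a • b a : W) = 0 := by
        apply Subtype.ext
        have h4 : ((∑ a, c a • b a : W) : V) = ∑ a, c a • w a := by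
          rw [AddSubmonoidClass.coe_finsetSum]
          rfl
        rw [h4]
        have h5 : (∑ a, c a • w a) ∈ LinearMap.ker (N ^ k) ⊓ W := by
          refine ⟨h2, ?_⟩
          rw [← h4]
          exact (∑ a, c a • b a : W).2
        rw [hW.inf_eq_bot] at h5
        exact (Submodule.mem_bot F).1 h5
      funext a
      exact Fintype.linearIndependent_iff.1 b.linearIndependent c h3 a
    obtain ⟨⟨S, T, hST, hTS⟩, hS⟩ := hunit
    change S = gram f N w k at hS
    obtain ⟨x, hxw, hx0⟩ := h.normalize hs hN w (T := T) (by rw [← hS, hTS]) (by rw [← hS, hST])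
    have hSx : gram f N x k = S := by
      rw [hS]
      ext a c
      rw [gram_apply, gram_apply, hxw c]
      have h1 := h.adj_pow k (x a) (w c)
      have h2 := h.adj_pow k (w a) (w c)
      rw [hxw a, h2] at h1
      exact (mul_left_cancel₀ (pow_ne_zero k hs.eta) h1).symm
    have hform : ∀ a c j, f (x a) ((N ^ j) (x c)) = if j = k then S a c else 0 := by
      intro a c j
      rcases lt_trichotomy j k with hj | hj | hj
      · rw [if_neg hj.ne, ← gram_apply (f := f), hx0 j hj, Matrix.zero_apply]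
      · rw [if_pos hj, hj, ← hSx, gram_apply]
      · rw [if_neg hj.ne', pow_eq_zero_of_lt hN hj, LinearMap.zero_apply, h.zero_right]
    -- the orthogonal complement
    let U : Submodule F V :=
      { carrier := {v | ∀ a j, f v ((N ^ j) (x a)) = 0}
        add_mem' := fun {v v'} hv hv' a j => by rw [h.add_left, hv a j, hv' a j, add_zero]
        zero_mem' := fun a j => h.zero_left _
        smul_mem' := fun c v hv a j => by rw [h.smul_left, hv a j, mul_zero] }
    have hU : ∀ v ∈ U, N v ∈ U := by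
      intro v hv a j
      rw [h.adj, ← Module.End.mul_apply, ← pow_succ', hv a (j + 1), mul_zero]
    -- the projection
    have hproj : ∀ z : V, ∃ c : Fin (finrank F W) → ℕ → F,
        z - ∑ a, ∑ j ∈ Finset.range (k + 1), c a j • (N ^ j) (x a) ∈ U := by
      intro z
      refine ⟨fun a j => (η ^ j)⁻¹ * ∑ d, f z ((N ^ (k - j)) (x d)) * T d a, ?_⟩
      intro c l
      rw [h.sub_left, h.sum_left, sub_eq_zero]
      have h1 : ∀ a, f (∑ j ∈ Finset.range (k + 1), ((η ^ j)⁻¹ * ∑ d, f z ((N ^ (k - j)) (x d)) * T d a) •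
          (N ^ j) (x a)) ((N ^ l) (x c)) = if l ≤ k then (∑ d, f z ((N ^ l) (x d)) * T d a) * S a c else 0 := by
        intro a
        rw [h.sum_left]
        split_ifs with hl
        · rw [Finset.sum_eq_single (k - l)]
          · rw [h.smul_left, h.adj_pow, ← Module.End.mul_apply, ← pow_add, hform, if_pos (by omega),
              show k - (k - l) = l by omega]
            have := pow_ne_zero (k - l) hs.eta
            field_simp
          · intro j hj hjl
            rw [Finset.mem_range] at hj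
            rw [h.smul_left, h.adj_pow, ← Module.End.mul_apply, ← pow_add, hform, if_neg (by omega)]
            ring
          · intro hcon
            exact absurd (Finset.mem_range.2 (by omega)) hcon
        · refine Finset.sum_eq_zero fun j _ => ?_
          rw [h.smul_left, h.adj_pow, ← Module.End.mul_apply, ← pow_add, hform, if_neg (by omega)]
          ring
      simp only [h1]
      by_cases hl : l ≤ k
      · simp only [if_pos hl]
        have h2 : ∀ a, (∑ d, f z ((N ^ l) (x d)) * T d a) * S a c = ∑ d, f z ((N ^ l) (x d)) * (T d a * S a c) := by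
          intro a
          rw [Finset.sum_mul]
          exact Finset.sum_congr rfl fun d _ => by ring
        simp only [h2]
        rw [Finset.sum_comm]
        have h3 : ∀ d, ∑ a, f z ((N ^ l) (x d)) * (T d a * S a c) = f z ((N ^ l) (x d)) * (T * S) d c := by
          intro d
          rw [Matrix.mul_apply, Finset.mul_sum]
        simp only [h3, hTS, Matrix.one_apply, mul_ite, mul_one, mul_zero, Finset.sum_ite_eq', Finset.mem_univ,
          if_true]
      · simp only [if_neg hl, Finset.sum_const_zero]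
        rw [pow_eq_zero_of_lt hN (by omega), LinearMap.zero_apply, h.zero_right]
    -- the form on the complement is non-degenerate
    have hnd : ∀ v ∈ U, (∀ y ∈ U, f v y = 0) → v = 0 := by
      intro v hv hvy
      apply h.nondeg
      intro z
      obtain ⟨c, hc⟩ := hproj z
      have h1 : z = (z - ∑ a, ∑ j ∈ Finset.range (k + 1), c a j • (N ^ j) (x a)) +
        ∑ a, ∑ j ∈ Finset.range (k + 1), c a j • (N ^ j) (x a) := by abel
      rw [h1, h.add_right, hvy _ hc, zero_add, h.sum_right]
      refine Finset.sum_eq_zero fun a _ => ?_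
      rw [h.sum_right]
      refine Finset.sum_eq_zero fun j _ => ?_
      rw [h.smul_right, hv a j, mul_zero]
    -- and `N ^ k = 0` there
    have hNU : (N.restrict hU) ^ k = 0 := by
      ext ⟨v, hv⟩
      rw [LinearMap.zero_apply]
      have h1 : (((N.restrict hU) ^ k) ⟨v, hv⟩ : V) = (N ^ k) v := restrict_pow hU k ⟨v, hv⟩
      rw [h1]
      apply hker
      intro z
      obtain ⟨c, u, hu, rfl⟩ := hdec z
      rw [h.add_left, hfk _ _ hu, add_zero, h.sum_left]
      refine Finset.sum_eq_zero fun a _ => ?_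
      rw [h.smul_left]
      have h2 := h.adj_pow k (w a) v
      rw [← hxw a] at h2
      have h3 : f ((N ^ k) (x a)) v = 0 := by
        rw [h.symm v, hv a k, map_zero, mul_zero]
      rw [h3] at h2
      rw [(mul_eq_zero.1 h2.symm).resolve_left (pow_ne_zero k hs.eta), mul_zero]
    obtain ⟨ι', _, _, ℓ', S', x', hx', hℓ'⟩ := ih (h.restrict U hU hnd) hNU
    -- assembly
    refine ⟨Fin (finrank F W) ⊕ ι', inferInstance, inferInstance, Sum.elim (fun _ => k + 1) ℓ',
      Matrix.fromBlocks S 0 0 S', Sum.elim x (fun a => (x' a : V)), ⟨?_, ?_, ?_, ?_, ?_, ?_⟩, ?_⟩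
    · rintro (a | a)
      · exact Nat.succ_pos k
      · exact hx'.pos a
    · rintro (a | a)
      · rw [Sum.elim_inl, Sum.elim_inl, hN, LinearMap.zero_apply]
      · rw [Sum.elim_inr, Sum.elim_inr, ← restrict_pow hU, hx'.pow a]
        rfl
    · rintro (a | a) (c | c) j
      · rw [Sum.elim_inl, Sum.elim_inl, Sum.elim_inl, Matrix.fromBlocks_apply₁₁, hform]
        simp only [Nat.add_right_cancel_iff]
      · rw [Sum.elim_inl, Sum.elim_inr, Sum.elim_inr, Matrix.fromBlocks_apply₁₂, Matrix.zero_apply, ite_self,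
          h.symm_pow]
        have h1 := (x' c).2 a j
        rw [h1, map_zero, mul_zero]
      · rw [Sum.elim_inl, Sum.elim_inr, Sum.elim_inl, Matrix.fromBlocks_apply₂₁, Matrix.zero_apply, ite_self]
        exact (x' a).2 c j
      · rw [Sum.elim_inr, Sum.elim_inr, Sum.elim_inr, Matrix.fromBlocks_apply₂₂, ← hx'.form a c j,
          ← restrict_pow hU]
    · rintro (a | a) (c | c) hac
      · exact absurd rfl hac
      · rfl
      · rfl
      · exact hx'.blk a c hac
    · rw [Matrix.isUnit_iff_isUnit_det, Matrix.det_fromBlocks_zero₂₁]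
      exact ((Matrix.isUnit_iff_isUnit_det _).1 ⟨⟨S, T, hST, hTS⟩, rfl⟩).mul
        ((Matrix.isUnit_iff_isUnit_det _).1 hx'.inv)
    · rw [eq_top_iff]
      intro z _
      obtain ⟨c, hc⟩ := hproj z
      have h1 : z = (z - ∑ a, ∑ j ∈ Finset.range (k + 1), c a j • (N ^ j) (x a)) +
        ∑ a, ∑ j ∈ Finset.range (k + 1), c a j • (N ^ j) (x a) := by abel
      rw [h1]
      refine Submodule.add_mem _ ?_ ?_
      · have h2 : (⟨_, hc⟩ : U) ∈ Submodule.span F (Set.range fun p : (a : ι') × Fin (ℓ' a) =>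
            ((N.restrict hU) ^ (p.2 : ℕ)) (x' p.1)) := by rw [hx'.span]; trivial
        have h3 := Submodule.mem_map_of_mem (f := U.subtype) h2
        rw [Submodule.map_span] at h3
        refine Submodule.span_mono ?_ h3
        rintro _ ⟨_, ⟨⟨a, j⟩, rfl⟩, rfl⟩
        refine ⟨⟨Sum.inr a, j⟩, ?_⟩
        exact (restrict_pow hU j (x' a)).symm
      · refine Submodule.sum_mem _ fun a _ => Submodule.sum_mem _ fun j hj => Submodule.smul_mem _ _ ?_
        exact Submodule.subset_span ⟨⟨Sum.inl a, ⟨j, Finset.mem_range.1 hj⟩⟩, rfl⟩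
    · rintro (a | a)
      · exact le_rfl
      · exact (hℓ' a).trans (Nat.le_succ k)

end Exists

end Cfsg.Agent.H194.NilForm
end

-- part: H194/NilFormB
section
/-!
# Normal bases: coordinates, comparison, isometries

* `IsNB.coords` : uniqueness of coordinates;
* `IsNB.congr` : the Gram blocks of two normal bases of the same `(V, f, N)` are congruent;
* `IsNB.change` : change of a normal basis by a matrix;
* `exists_isometry` : two spaces with normal bases of the same type are equivariantly isometric.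
-/

set_option autoImplicit false

namespace Cfsg.Agent.H194.NilForm

open Module

section

variable {F : Type*} [Field F] {V : Type*} [AddCommGroup V] [Module F V]
  {σ : F →+* F} {ε η τ : F} {f : V → V → F} {N : V →ₗ[F] V}
  {ι : Type*} [Fintype ι] [DecidableEq ι] {ℓ : ι → ℕ} {S : Matrix ι ι F} {x : ι → V}

/-- every vector has coordinates -/
theorem IsNB.exists_coords (hx : IsNB f N ℓ S x) (v : V) :
    ∃ g : ι → ℕ → F, v = ∑ a, ∑ j ∈ Finset.range (ℓ a), g a j • (N ^ j) (x a) := by
  have hv : v ∈ Submodule.span F (Set.range fun p : (a : ι) × Fin (ℓ a) => (N ^ (p.2 : ℕ)) (x p.1)) := by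
    rw [hx.span]; trivial
  rw [Submodule.mem_span_range_iff_exists_fun] at hv
  obtain ⟨c, rfl⟩ := hv
  refine ⟨fun a j => if h : j < ℓ a then c ⟨a, ⟨j, h⟩⟩ else 0, ?_⟩
  rw [Fintype.sum_sigma]
  refine Finset.sum_congr rfl fun a _ => ?_
  rw [← Fin.sum_univ_eq_sum_range (fun j => (if h : j < ℓ a then c ⟨a, ⟨j, h⟩⟩ else 0) • (N ^ j) (x a))]
  refine Finset.sum_congr rfl fun j _ => ?_
  rw [dif_pos j.2]

theorem IsNB.sum_vecMul (hx : IsNB f N ℓ S x) {c : ι → F} (h : ∀ b, ∑ a, c a * S a b = 0) : c = 0 := by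
  have h1 : Matrix.vecMul c S = 0 := by
    ext b
    rw [Matrix.vecMul, dotProduct, h b, Pi.zero_apply]
  have h2 := Matrix.vecMul_injective_iff_isUnit.2 hx.inv
  exact h2 (h1.trans (Matrix.zero_vecMul S).symm)

/-- coordinates of vectors killed by `N ^ i` -/
theorem IsNB.coords (h : Pair σ ε η f N) (hη : η ≠ 0) (hx : IsNB f N ℓ S x) {g : ι → ℕ → F} {i : ℕ}
    (hi : (N ^ i) (∑ a, ∑ j ∈ Finset.range (ℓ a), g a j • (N ^ j) (x a)) = 0) (a₀ : ι) (j₀ : ℕ)
    (hj₀ : j₀ + i < ℓ a₀) : g a₀ j₀ = 0 := by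
  let c : ι → F := fun a => if j₀ + i < ℓ a then g a j₀ else 0
  have hc : c = 0 := by
    apply hx.sum_vecMul
    intro b
    by_cases hb : j₀ + i < ℓ b
    · obtain ⟨l, hl⟩ := Nat.exists_eq_add_of_lt hb
      have h1 : f ((N ^ i) (∑ a, ∑ j ∈ Finset.range (ℓ a), g a j • (N ^ j) (x a))) ((N ^ l) (x b)) = 0 := by
        rw [hi, h.zero_left]
      rw [h.adj_pow, ← Module.End.mul_apply, ← pow_add, h.sum_left] at h1
      have h2 := (mul_eq_zero.1 h1).resolve_left (pow_ne_zero i hη)
      have h3 : ∀ a, f (∑ j ∈ Finset.range (ℓ a), g a j • (N ^ j) (x a)) ((N ^ (i + l)) (x b)) =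
          η ^ j₀ * (c a * S a b) := by
        intro a
        rw [h.sum_left]
        have h4 : ∀ j, f (g a j • (N ^ j) (x a)) ((N ^ (i + l)) (x b)) =
            if j = j₀ then g a j * (η ^ j * S a b) else 0 := by
          intro j
          rw [h.smul_left, h.adj_pow, ← Module.End.mul_apply, ← pow_add, hx.form]
          by_cases hj : j = j₀
          · rw [if_pos hj, if_pos (by omega)]
          · rw [if_neg hj, if_neg (by omega), mul_zero, mul_zero]
        simp only [h4]
        rw [Finset.sum_ite_eq']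
        by_cases hab : ℓ a = ℓ b
        · have h5 : j₀ < ℓ a := by omega
          rw [if_pos (Finset.mem_range.2 h5)]
          simp only [c]
          rw [if_pos (by omega)]
          ring
        · rw [hx.blk a b hab]
          simp
      simp only [h3] at h2
      rw [← Finset.mul_sum] at h2
      exact (mul_eq_zero.1 h2).resolve_left (pow_ne_zero j₀ hη)
    · refine Finset.sum_eq_zero fun a _ => ?_
      by_cases hab : ℓ a = ℓ b
      · simp only [c]
        rw [if_neg (by omega), zero_mul]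
      · rw [hx.blk a b hab, mul_zero]
  have h6 := congrFun hc a₀
  simp only [c, Pi.zero_apply] at h6
  rwa [if_pos hj₀] at h6

/-- the value of `f u (N ^ (i - 1) v)` for `u, v` killed by `N ^ i` -/
theorem IsNB.form_ker (h : Pair σ ε η f N) (hη : η ≠ 0) (hx : IsNB f N ℓ S x) {g g' : ι → ℕ → F} {i : ℕ}
    (hi : (N ^ (i + 1)) (∑ a, ∑ j ∈ Finset.range (ℓ a), g a j • (N ^ j) (x a)) = 0)
    (hi' : (N ^ (i + 1)) (∑ a, ∑ j ∈ Finset.range (ℓ a), g' a j • (N ^ j) (x a)) = 0) :
    f (∑ a, ∑ j ∈ Finset.range (ℓ a), g a j • (N ^ j) (x a))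
      ((N ^ i) (∑ a, ∑ j ∈ Finset.range (ℓ a), g' a j • (N ^ j) (x a))) =
    ∑ a, ∑ b, if ℓ a = i + 1 ∧ ℓ b = i + 1 then g a 0 * S a b * σ (g' b 0) else 0 := by
  have e1 : ∀ a, (N ^ i) (∑ j ∈ Finset.range (ℓ a), g' a j • (N ^ j) (x a)) =
      ∑ j ∈ Finset.range (ℓ a), g' a j • (N ^ (i + j)) (x a) := by
    intro a
    rw [map_sum]
    refine Finset.sum_congr rfl fun j _ => ?_
    rw [map_smul, ← Module.End.mul_apply, ← pow_add]
  rw [h.sum_left]
  refine Finset.sum_congr rfl fun a _ => ?_
  rw [map_sum, h.sum_right]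
  refine Finset.sum_congr rfl fun b _ => ?_
  rw [e1, h.sum_left]
  have e2 : ∀ j, f (g a j • (N ^ j) (x a)) (∑ l ∈ Finset.range (ℓ b), g' b l • (N ^ (i + l)) (x b)) =
      ∑ l ∈ Finset.range (ℓ b), g a j * (η ^ j * (σ (g' b l) * (if j + (i + l) + 1 = ℓ b then S a b else 0))) := by
    intro j
    rw [h.sum_right]
    refine Finset.sum_congr rfl fun l _ => ?_
    rw [h.smul_left, h.smul_right, h.adj_pow, ← Module.End.mul_apply, ← pow_add, hx.form]
    ring
  simp only [e2]
  by_cases hab : ℓ a = ℓ b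
  · by_cases hai : ℓ b = i + 1
    · rw [if_pos ⟨hab.trans hai, hai⟩, Finset.sum_eq_single 0, Finset.sum_eq_single 0]
      · rw [if_pos (by omega)]
        ring
      · intro l _ hl
        rw [if_neg (by omega)]
        ring
      · intro hcon
        exact absurd (Finset.mem_range.2 (by omega)) hcon
      · intro j _ hj
        refine Finset.sum_eq_zero fun l _ => ?_
        rw [if_neg (by omega)]
        ring
      · intro hcon
        exact absurd (Finset.mem_range.2 (by omega)) hcon
    · rw [if_neg (fun hcon => hai hcon.2)]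
      refine Finset.sum_eq_zero fun j _ => Finset.sum_eq_zero fun l _ => ?_
      by_cases hjl : j + (i + l) + 1 = ℓ b
      · -- then one of the coordinates vanishes
        by_cases h1 : j + (i + 1) < ℓ a
        · rw [hx.coords h hη hi a j h1, zero_mul]
        · have h2 : l + (i + 1) < ℓ b := by omega
          rw [hx.coords h hη hi' b l h2, map_zero]
          ring
      · rw [if_neg hjl]
        ring
  · rw [if_neg (fun hcon => hab (hcon.1.trans hcon.2.symm))]
    refine Finset.sum_eq_zero fun j _ => Finset.sum_eq_zero fun l _ => ?_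
    rw [hx.blk a b hab, ite_self]
    ring

/-- **Comparison of two normal bases.** -/
theorem IsNB.congr (h : Pair σ ε η f N) (hη : η ≠ 0) (hx : IsNB f N ℓ S x)
    {ι' : Type*} [Fintype ι'] [DecidableEq ι'] {ℓ' : ι' → ℕ} {S' : Matrix ι' ι' F} {x' : ι' → V}
    (hx' : IsNB f N ℓ' S' x') (i : ℕ) (hi : 0 < i) :
    ∃ M : Matrix {a // ℓ a = i} {b // ℓ' b = i} F,
      S.toSquareBlock ℓ i = M * S'.toSquareBlock ℓ' i * (M.map σ).transpose := by
  obtain ⟨i, rfl⟩ : ∃ i', i = i' + 1 := ⟨i - 1, by omega⟩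
  choose g hg using fun a => hx'.exists_coords (x a)
  refine ⟨Matrix.of fun a b => g a b 0, ?_⟩
  ext a a'
  rw [Matrix.mul_apply]
  simp only [Matrix.mul_apply, Matrix.transpose_apply, Matrix.map_apply, Matrix.of_apply, Matrix.toSquareBlock_def]
  have h1 := hx.form a a' i
  rw [if_pos a'.2.symm] at h1
  have hpow : ∀ a : {a // ℓ a = i + 1}, (N ^ (i + 1)) (x a) = 0 := fun a => by
    have h2 := hx.pow a
    rwa [a.2] at h2
  have ha := hpow a
  have ha' := hpow a'
  rw [hg a] at ha
  rw [hg a'] at ha'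
  rw [hg a, hg a', hx'.form_ker h hη ha ha'] at h1
  rw [← h1]
  rw [Finset.sum_comm]
  have h3 : ∀ b, (∑ c, if ℓ' c = i + 1 ∧ ℓ' b = i + 1 then g a c 0 * S' c b * σ (g a' b 0) else 0) =
      if ℓ' b = i + 1 then (∑ c, if ℓ' c = i + 1 then g a c 0 * S' c b else 0) * σ (g a' b 0) else 0 := by
    intro b
    split_ifs with hb
    · rw [Finset.sum_mul]
      refine Finset.sum_congr rfl fun c _ => ?_
      by_cases hc : ℓ' c = i + 1
      · rw [if_pos hc, if_pos ⟨hc, hb⟩]
      · rw [if_neg hc, if_neg (fun hcon => hc hcon.1), zero_mul]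
    · exact Finset.sum_eq_zero fun c _ => if_neg fun hcon => hb hcon.2
  simp only [h3]
  rw [← Finset.sum_filter, Finset.sum_subtype (p := fun b => ℓ' b = i + 1)]
  · refine Finset.sum_congr rfl fun b _ => ?_
    congr 1
    rw [← Finset.sum_filter, Finset.sum_subtype (p := fun b => ℓ' b = i + 1)]
    simp
  · simp

theorem IsNB.pow_eq_zero (hx : IsNB f N ℓ S x) {a : ι} {j : ℕ} (hj : ℓ a ≤ j) : (N ^ j) (x a) = 0 := by
  obtain ⟨m, rfl⟩ := Nat.exists_eq_add_of_le hj
  rw [add_comm, pow_add, Module.End.mul_apply, hx.pow, map_zero]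

theorem IsNB.linearIndependent (h : Pair σ ε η f N) (hη : η ≠ 0) (hx : IsNB f N ℓ S x) :
    LinearIndependent F (fun p : (a : ι) × Fin (ℓ a) => (N ^ (p.2 : ℕ)) (x p.1)) := by
  rw [Fintype.linearIndependent_iff]
  rintro c hc ⟨a, j⟩
  have h1 := hx.coords (g := fun a j => if h : j < ℓ a then c ⟨a, ⟨j, h⟩⟩ else 0) (i := 0) h hη (by
    rw [pow_zero, Module.End.one_apply, ← hc, Fintype.sum_sigma]
    refine Finset.sum_congr rfl fun a _ => ?_
    rw [← Fin.sum_univ_eq_sum_range (fun j => (if h : j < ℓ a then c ⟨a, ⟨j, h⟩⟩ else 0) • (N ^ j) (x a))]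
    refine Finset.sum_congr rfl fun j _ => ?_
    rw [dif_pos j.2]) a j j.2
  simpa using h1

/-- the basis -/
noncomputable def IsNB.basis (h : Pair σ ε η f N) (hη : η ≠ 0) (hx : IsNB f N ℓ S x) :
    Basis ((a : ι) × Fin (ℓ a)) F V :=
  Basis.mk (hx.linearIndependent h hη) hx.span.ge

theorem IsNB.basis_apply (h : Pair σ ε η f N) (hη : η ≠ 0) (hx : IsNB f N ℓ S x) (p : (a : ι) × Fin (ℓ a)) :
    hx.basis h hη p = (N ^ (p.2 : ℕ)) (x p.1) := by
  rw [IsNB.basis, Basis.mk_apply]

theorem IsNB.finrank_eq (h : Pair σ ε η f N) (hη : η ≠ 0) (hx : IsNB f N ℓ S x) :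
    finrank F V = ∑ a, ℓ a := by
  rw [Module.finrank_eq_card_basis (hx.basis h hη)]
  simp

theorem IsNB.block_isUnit (hx : IsNB f N ℓ S x) (i : ℕ) : IsUnit (S.toSquareBlock ℓ i) := by
  obtain ⟨⟨S₀, T, hST, hTS⟩, rfl⟩ := hx.inv
  change IsUnit (S₀.toSquareBlock ℓ i)
  apply IsUnit.of_mul_eq_one (T.toSquareBlock ℓ i)
  ext a b
  have h1 := congrFun (congrFun hST a) b
  rw [Matrix.mul_apply] at h1
  rw [Matrix.mul_apply]
  have h2 : ∑ c, S₀ a c * T c b = ∑ c : {c // ℓ c = i}, S₀ a c * T c b := by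
    rw [← Finset.sum_subtype (Finset.univ.filter fun c => ℓ c = i) (by simp) (fun c => S₀ a c * T c b),
      Finset.sum_filter]
    refine Finset.sum_congr rfl fun c _ => ?_
    split_ifs with hc
    · rfl
    · have : S₀ a c = 0 := hx.blk a c (by rw [a.2]; exact fun hcon => hc hcon.symm)
      rw [this, zero_mul]
  rw [h2] at h1
  simp only [Matrix.toSquareBlock_def, Matrix.of_apply]
  rw [h1, Matrix.one_apply, Matrix.one_apply]
  simp only [Subtype.ext_iff]

theorem card_le_of_eq {κ κ' : Type*} [Fintype κ] [Fintype κ'] [DecidableEq κ]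
    {A : Matrix κ κ F} {A' : Matrix κ' κ' F} {M : Matrix κ κ' F} (hA : IsUnit A)
    (hM : A = M * A' * (M.map σ).transpose) : Fintype.card κ ≤ Fintype.card κ' := by
  have h1 := Matrix.rank_of_isUnit A hA
  rw [← h1, hM, Matrix.mul_assoc]
  exact (Matrix.rank_mul_le_left _ _).trans (Matrix.rank_le_card_width _)

/-- the multiplicities of the blocks agree -/
theorem IsNB.card_eq (h : Pair σ ε η f N) (hη : η ≠ 0) (hx : IsNB f N ℓ S x)
    {ι' : Type*} [Fintype ι'] [DecidableEq ι'] {ℓ' : ι' → ℕ} {S' : Matrix ι' ι' F} {x' : ι' → V}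
    (hx' : IsNB f N ℓ' S' x') (i : ℕ) (hi : 0 < i) :
    Fintype.card {a // ℓ a = i} = Fintype.card {b // ℓ' b = i} := by
  obtain ⟨M, hM⟩ := hx.congr h hη hx' i hi
  obtain ⟨M', hM'⟩ := hx'.congr h hη hx i hi
  exact le_antisymm (card_le_of_eq (hx.block_isUnit i) hM) (card_le_of_eq (hx'.block_isUnit i) hM')

/-- the determinants of the Gram blocks -/
theorem IsNB.det_eq (h : Pair σ ε η f N) (hη : η ≠ 0) (hx : IsNB f N ℓ S x)
    {ι' : Type*} [Fintype ι'] [DecidableEq ι'] {ℓ' : ι' → ℕ} {S' : Matrix ι' ι' F} {x' : ι' → V}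
    (hx' : IsNB f N ℓ' S' x') (i : ℕ) (hi : 0 < i) :
    ∃ c : F, c ≠ 0 ∧ (S.toSquareBlock ℓ i).det = c * σ c * (S'.toSquareBlock ℓ' i).det := by
  obtain ⟨M, hM⟩ := hx.congr h hη hx' i hi
  let e : {a // ℓ a = i} ≃ {b // ℓ' b = i} := Fintype.equivOfCardEq (hx.card_eq h hη hx' i hi)
  have h1 : S.toSquareBlock ℓ i = M.submatrix id e * (S'.toSquareBlock ℓ' i).submatrix e e *
      ((M.submatrix id e).map σ).transpose := by
    rw [hM]
    have h2 : ((M.submatrix id e).map σ).transpose = (M.map σ).transpose.submatrix e id := rfl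
    rw [h2, Matrix.submatrix_mul_equiv, Matrix.submatrix_mul_equiv, Matrix.submatrix_id_id]
  have h2 := congrArg Matrix.det h1
  rw [Matrix.det_mul, Matrix.det_mul, Matrix.det_transpose, Matrix.det_submatrix_equiv_self,
    ← RingHom.mapMatrix_apply, ← RingHom.map_det] at h2
  refine ⟨(M.submatrix id e).det, ?_, by rw [h2]; ring⟩
  intro h0
  rw [h0] at h2
  have h3 := (Matrix.isUnit_iff_isUnit_det _).1 (hx.block_isUnit i)
  rw [h2] at h3
  simp at h3

/-- **Change of a normal basis.** -/
theorem IsNB.change (h : Pair σ ε η f N) (hx : IsNB f N ℓ S x)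
    {ι' : Type*} [Fintype ι'] [DecidableEq ι'] {ℓ' : ι' → ℕ} {M : Matrix ι' ι F} {L : Matrix ι ι' F}
    (hML : M * L = 1) (hLM : L * M = 1) (hM : ∀ a b, M a b ≠ 0 → ℓ' a = ℓ b) :
    IsNB f N ℓ' (M * S * (M.map σ).transpose) (fun a => ∑ b, M a b • x b) := by
  have hentry : ∀ a b, (M * S * (M.map σ).transpose) a b = ∑ d, (∑ c, M a c * S c d) * σ (M b d) := by
    intro a b
    rw [Matrix.mul_apply]
    refine Finset.sum_congr rfl fun d _ => ?_
    rw [Matrix.mul_apply, Matrix.transpose_apply, Matrix.map_apply]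
  refine ⟨?_, ?_, ?_, ?_, ?_, ?_⟩
  · intro a
    by_contra hcon
    have h0 : ∀ b, M a b = 0 := by
      intro b
      by_contra hne
      exact hcon (by rw [hM a b hne]; exact hx.pos b)
    have h1 := congrFun (congrFun hML a) a
    rw [Matrix.mul_apply, Matrix.one_apply_eq] at h1
    simp [h0] at h1
  · intro a
    rw [map_sum]
    refine Finset.sum_eq_zero fun b _ => ?_
    rw [map_smul]
    by_cases hab : M a b = 0
    · rw [hab, zero_smul]
    · rw [hM a b hab, hx.pow, smul_zero]
  · intro a b j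
    rw [h.sum_left, hentry]
    have h1 : ∀ c, f (M a c • x c) ((N ^ j) (∑ d, M b d • x d)) =
        ∑ d, (if j + 1 = ℓ' b then M a c * S c d * σ (M b d) else 0) := by
      intro c
      rw [map_sum, h.sum_right]
      refine Finset.sum_congr rfl fun d _ => ?_
      rw [h.smul_left, map_smul, h.smul_right, hx.form]
      by_cases hbd : M b d = 0
      · rw [hbd, map_zero]
        simp
      · rw [hM b d hbd]
        split_ifs <;> ring
    simp only [h1]
    rw [Finset.sum_comm]
    split_ifs with hj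
    · refine Finset.sum_congr rfl fun d _ => ?_
      rw [Finset.sum_mul]
    · simp
  · intro a b hab
    rw [hentry]
    refine Finset.sum_eq_zero fun d _ => ?_
    by_cases hbd : M b d = 0
    · rw [hbd, map_zero, mul_zero]
    · rw [Finset.sum_eq_zero, zero_mul]
      intro c _
      by_cases hac : M a c = 0
      · rw [hac, zero_mul]
      · rw [hx.blk c d, mul_zero]
        intro hcd
        exact hab ((hM a c hac).trans (hcd.trans (hM b d hbd).symm))
  · obtain ⟨⟨S₀, T, hST, hTS⟩, rfl⟩ := hx.inv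
    change IsUnit (M * S₀ * (M.map σ).transpose)
    apply IsUnit.of_mul_eq_one ((L.map σ).transpose * T * L)
    have h1 : (M.map σ).transpose * (L.map σ).transpose = 1 := by
      rw [← Matrix.transpose_mul, ← Matrix.map_mul, hLM]
      simp
    calc M * S₀ * (M.map σ).transpose * ((L.map σ).transpose * T * L)
        = M * S₀ * ((M.map σ).transpose * (L.map σ).transpose) * T * L := by
          simp only [Matrix.mul_assoc]
      _ = M * (S₀ * T) * L := by rw [h1, Matrix.mul_one]; simp only [Matrix.mul_assoc]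
      _ = 1 := by rw [hST, Matrix.mul_one, hML]
  · rw [eq_top_iff, ← hx.span, Submodule.span_le]
    rintro _ ⟨⟨b, j⟩, rfl⟩
    have h1 : x b = ∑ a, L b a • ∑ c, M a c • x c := by
      simp only [Finset.smul_sum, smul_smul]
      rw [Finset.sum_comm]
      simp only [← Finset.sum_smul]
      have h2 : ∀ c, ∑ a, L b a * M a c = (1 : Matrix ι ι F) b c := fun c => by
        rw [← hLM, Matrix.mul_apply]
      simp only [h2, Matrix.one_apply, ite_smul, one_smul, zero_smul, Finset.sum_ite_eq, Finset.mem_univ, if_true]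
    show (N ^ (j : ℕ)) (x b) ∈ _
    rw [h1, map_sum]
    refine Submodule.sum_mem _ fun a _ => ?_
    rw [map_smul]
    refine Submodule.smul_mem _ _ ?_
    by_cases hj : (j : ℕ) < ℓ' a
    · exact Submodule.subset_span ⟨⟨a, ⟨j, hj⟩⟩, rfl⟩
    · have h3 : (N ^ (j : ℕ)) (∑ c, M a c • x c) = 0 := by
        rw [map_sum]
        refine Finset.sum_eq_zero fun c _ => ?_
        rw [map_smul]
        by_cases hac : M a c = 0
        · rw [hac, zero_smul]
        · rw [hx.pow_eq_zero (by rw [← hM a c hac]; omega), smul_zero]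
      rw [h3]
      exact zero_mem _

/-- **Equal types give equivariant isometries.** -/
theorem exists_isometry (h : Pair σ ε η f N) (hη : η ≠ 0) (hx : IsNB f N ℓ S x)
    {V' : Type*} [AddCommGroup V'] [Module F V'] {f' : V' → V' → F} {N' : V' →ₗ[F] V'}
    (h' : Pair σ ε η f' N') {x' : ι → V'} (hx' : IsNB f' N' ℓ S x') :
    ∃ e : V ≃ₗ[F] V', (∀ u v, f' (e u) (e v) = f u v) ∧ ∀ v, e (N v) = N' (e v) := by
  let e : V ≃ₗ[F] V' := (hx.basis h hη).equiv (hx'.basis h' hη) (Equiv.refl _)
  have he : ∀ a j, e ((N ^ j) (x a)) = (N' ^ j) (x' a) := by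
    intro a j
    by_cases hj : j < ℓ a
    · have h1 := (hx.basis h hη).equiv_apply (b' := hx'.basis h' hη) (i := ⟨a, ⟨j, hj⟩⟩) (e := Equiv.refl _)
      rw [hx.basis_apply, Equiv.refl_apply, hx'.basis_apply] at h1
      exact h1
    · rw [hx.pow_eq_zero (by omega), hx'.pow_eq_zero (by omega), map_zero]
  refine ⟨e, ?_, ?_⟩
  · intro u v
    obtain ⟨g, rfl⟩ := hx.exists_coords u
    obtain ⟨g', rfl⟩ := hx.exists_coords v
    simp only [map_sum, map_smul, he, h.sum_left, h.sum_right, h'.sum_left, h'.sum_right, h.smul_left,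
      h'.smul_left, h.smul_right, h'.smul_right, h.adj_pow, h'.adj_pow]
    refine Finset.sum_congr rfl fun a _ => Finset.sum_congr rfl fun j _ => Finset.sum_congr rfl fun b _ =>
      Finset.sum_congr rfl fun l _ => ?_
    rw [← Module.End.mul_apply, ← Module.End.mul_apply, ← pow_add, ← pow_add, hx.form, hx'.form]
  · intro v
    obtain ⟨g, rfl⟩ := hx.exists_coords v
    simp only [map_sum, map_smul, he]
    refine Finset.sum_congr rfl fun a _ => Finset.sum_congr rfl fun j _ => ?_
    rw [← Module.End.mul_apply, ← pow_succ', he, pow_succ', Module.End.mul_apply]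

end

end Cfsg.Agent.H194.NilForm
end

-- part: H194/NilFormC
section
/-!
# Normal bases: models and transport

* `Pair.transport`, `IsNB.transport`;
* `exists_model` : every Gram matrix with the right symmetry is realised.
-/

set_option autoImplicit false
set_option linter.unusedSectionVars false

namespace Cfsg.Agent.H194.NilForm

open Module

section Transport

variable {F : Type*} [Field F] {V : Type*} [AddCommGroup V] [Module F V]
  {σ : F →+* F} {ε η τ : F} {f : V → V → F} {N : V →ₗ[F] V}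
  {V' : Type*} [AddCommGroup V'] [Module F V'] {f' : V' → V' → F} {N' : V' →ₗ[F] V'}

theorem Pair.transport (h : Pair σ ε η f N) (e : V' ≃ₗ[F] V) (he : ∀ u v, f (e u) (e v) = f' u v)
    (hN : ∀ v, e (N' v) = N (e v)) : Pair σ ε η f' N' where
  add_left u u' v := by rw [← he, ← he, ← he, map_add, h.add_left]
  smul_left c u v := by rw [← he, ← he, map_smul, h.smul_left]
  symm u v := by rw [← he, ← he, h.symm]
  adj u v := by rw [← he, ← he, hN, hN, h.adj]
  nondeg u hu := by
    rw [← e.map_eq_zero_iff]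
    apply h.nondeg
    intro y
    rw [← e.apply_symm_apply y, he, hu]

theorem IsNB.transport {ι : Type*} [Fintype ι] [DecidableEq ι] {ℓ : ι → ℕ} {S : Matrix ι ι F} {x : ι → V}
    (hx : IsNB f N ℓ S x) (e : V' ≃ₗ[F] V) (he : ∀ u v, f (e u) (e v) = f' u v)
    (hN : ∀ v, e (N' v) = N (e v)) : IsNB f' N' ℓ S (fun a => e.symm (x a)) := by
  have hpow : ∀ j v, (N' ^ j) (e.symm v) = e.symm ((N ^ j) v) := by
    intro j
    induction j with
    | zero => intro v; rfl
    | succ j ih =>
      intro v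
      rw [pow_succ, pow_succ, Module.End.mul_apply, Module.End.mul_apply, ← ih]
      congr 1
      apply e.injective
      rw [hN, e.apply_symm_apply, e.apply_symm_apply]
  refine ⟨hx.pos, ?_, ?_, hx.blk, hx.inv, ?_⟩
  · intro a
    rw [hpow, hx.pow, map_zero]
  · intro a b j
    rw [hpow, ← he, e.apply_symm_apply, e.apply_symm_apply, hx.form]
  · rw [eq_top_iff]
    intro v _
    have h1 : e v ∈ Submodule.span F (Set.range fun p : (a : ι) × Fin (ℓ a) => (N ^ (p.2 : ℕ)) (x p.1)) := by
      rw [hx.span]; trivial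
    have h2 := Submodule.mem_map_of_mem (f := e.symm.toLinearMap) h1
    rw [Submodule.map_span] at h2
    rw [LinearEquiv.coe_coe, e.symm_apply_apply] at h2
    refine Submodule.span_mono ?_ h2
    rintro _ ⟨_, ⟨p, rfl⟩, rfl⟩
    exact ⟨p, hpow _ _⟩

end Transport

section Model

variable {F : Type*} [Field F] {σ : F →+* F} {ε η τ : F} {ι : Type*} [Fintype ι] [DecidableEq ι] (ℓ : ι → ℕ)
  (S : Matrix ι ι F)

/-- the vector `N ^ j x_a` of the model -/
def vec (F : Type*) [Field F] {ι : Type*} [DecidableEq ι] (ℓ : ι → ℕ) (a : ι) (j : ℕ) :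
    ((a : ι) × Fin (ℓ a)) → F :=
  if h : j < ℓ a then Pi.single ⟨a, ⟨j, h⟩⟩ 1 else 0

/-- the form of the model -/
def mform (σ : F →+* F) (η : F) (u v : ((a : ι) × Fin (ℓ a)) → F) : F :=
  ∑ p, ∑ q, u p * σ (v q) * (if (p.2 : ℕ) + q.2 + 1 = ℓ q.1 then η ^ (p.2 : ℕ) * S p.1 q.1 else 0)

/-- the nilpotent map of the model -/
noncomputable def mnil (F : Type*) [Field F] {ι : Type*} [Fintype ι] [DecidableEq ι] (ℓ : ι → ℕ) :
    (((a : ι) × Fin (ℓ a)) → F) →ₗ[F] (((a : ι) × Fin (ℓ a)) → F) :=
  (Pi.basisFun F ((a : ι) × Fin (ℓ a))).constr F (fun p => vec F ℓ p.1 (p.2 + 1))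

theorem single_eq_vec (p : (a : ι) × Fin (ℓ a)) : (Pi.single p 1 : _ → F) = vec F ℓ p.1 p.2 := by
  rw [vec, dif_pos p.2.2]

theorem mnil_vec (a : ι) (j : ℕ) : mnil F ℓ (vec F ℓ a j) = vec F ℓ a (j + 1) := by
  by_cases hj : j < ℓ a
  · have h1 : vec F ℓ a j = Pi.basisFun F ((a : ι) × Fin (ℓ a)) ⟨a, ⟨j, hj⟩⟩ := by
      rw [vec, dif_pos hj, Pi.basisFun_apply]
    rw [h1, mnil, Basis.constr_basis]
  · rw [vec, dif_neg hj, map_zero, vec, dif_neg (by omega)]

theorem mnil_pow_vec (a : ι) (j l : ℕ) : (mnil F ℓ ^ l) (vec F ℓ a j) = vec F ℓ a (j + l) := by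
  induction l with
  | zero => rfl
  | succ l ih => rw [pow_succ', Module.End.mul_apply, ih, mnil_vec, ← add_assoc]

theorem eq_sum_vec (u : ((a : ι) × Fin (ℓ a)) → F) : u = ∑ p, u p • vec F ℓ p.1 p.2 := by
  conv_lhs => rw [← Finset.univ_sum_single u]
  refine Finset.sum_congr rfl fun p _ => ?_
  rw [← single_eq_vec]
  ext q
  simp [Pi.single_apply]

theorem mform_vec (hS : ∀ a b, ℓ a ≠ ℓ b → S a b = 0) (a b : ι) (j l : ℕ) :
    mform ℓ S σ η (vec F ℓ a j) (vec F ℓ b l) = if j + l + 1 = ℓ b then η ^ j * S a b else 0 := by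
  by_cases hj : j < ℓ a
  · by_cases hl : l < ℓ b
    · rw [mform, Finset.sum_eq_single ⟨a, ⟨j, hj⟩⟩, Finset.sum_eq_single ⟨b, ⟨l, hl⟩⟩]
      · rw [vec, dif_pos hj, vec, dif_pos hl]
        simp
      · intro q _ hq
        rw [vec, vec, dif_pos hl, Pi.single_eq_of_ne hq]
        simp
      · intro hcon; exact absurd (Finset.mem_univ _) hcon
      · intro p _ hp
        refine Finset.sum_eq_zero fun q _ => ?_
        rw [vec, dif_pos hj, Pi.single_eq_of_ne hp]
        simp
      · intro hcon; exact absurd (Finset.mem_univ _) hcon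
    · rw [if_neg (by omega), mform]
      refine Finset.sum_eq_zero fun p _ => Finset.sum_eq_zero fun q _ => ?_
      rw [vec, vec, dif_neg hl]
      simp
  · have h1 : (if j + l + 1 = ℓ b then η ^ j * S a b else 0) = 0 := by
      split_ifs with h2
      · rw [hS a b (by omega), mul_zero]
      · rfl
    rw [h1, mform]
    refine Finset.sum_eq_zero fun p _ => Finset.sum_eq_zero fun q _ => ?_
    rw [vec, dif_neg hj]
    simp

theorem mform_add_left (u u' v : ((a : ι) × Fin (ℓ a)) → F) :
    mform ℓ S σ η (u + u') v = mform ℓ S σ η u v + mform ℓ S σ η u' v := by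
  rw [mform, mform, mform, ← Finset.sum_add_distrib]
  refine Finset.sum_congr rfl fun p _ => ?_
  rw [← Finset.sum_add_distrib]
  refine Finset.sum_congr rfl fun q _ => ?_
  rw [Pi.add_apply]
  ring

theorem mform_smul_left (c : F) (u v : ((a : ι) × Fin (ℓ a)) → F) :
    mform ℓ S σ η (c • u) v = c * mform ℓ S σ η u v := by
  rw [mform, mform, Finset.mul_sum]
  refine Finset.sum_congr rfl fun p _ => ?_
  rw [Finset.mul_sum]
  refine Finset.sum_congr rfl fun q _ => ?_
  rw [Pi.smul_apply, smul_eq_mul]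
  ring

theorem mform_add_right (u v v' : ((a : ι) × Fin (ℓ a)) → F) :
    mform ℓ S σ η u (v + v') = mform ℓ S σ η u v + mform ℓ S σ η u v' := by
  rw [mform, mform, mform, ← Finset.sum_add_distrib]
  refine Finset.sum_congr rfl fun p _ => ?_
  rw [← Finset.sum_add_distrib]
  refine Finset.sum_congr rfl fun q _ => ?_
  rw [Pi.add_apply, map_add]
  ring

theorem mform_smul_right (c : F) (u v : ((a : ι) × Fin (ℓ a)) → F) :
    mform ℓ S σ η u (c • v) = σ c * mform ℓ S σ η u v := by
  rw [mform, mform, Finset.mul_sum]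
  refine Finset.sum_congr rfl fun p _ => ?_
  rw [Finset.mul_sum]
  refine Finset.sum_congr rfl fun q _ => ?_
  rw [Pi.smul_apply, smul_eq_mul, map_mul]
  ring

theorem mform_ext {V' : Type*} [AddCommGroup V'] [Module F V'] (φ ψ : (((a : ι) × Fin (ℓ a)) → F) → V')
    (hφ : ∀ u v, φ (u + v) = φ u + φ v) (hψ : ∀ u v, ψ (u + v) = ψ u + ψ v) (ρ : F →+* F)
    (hφ' : ∀ (c : F) u, φ (c • u) = ρ c • φ u) (hψ' : ∀ (c : F) u, ψ (c • u) = ρ c • ψ u)
    (h : ∀ a j, φ (vec F ℓ a j) = ψ (vec F ℓ a j)) (u : _) : φ u = ψ u := by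
  have key : ∀ s : Finset ((a : ι) × Fin (ℓ a)), φ (∑ p ∈ s, u p • vec F ℓ p.1 p.2) =
      ψ (∑ p ∈ s, u p • vec F ℓ p.1 p.2) := by
    intro s
    induction s using Finset.induction_on with
    | empty =>
      rw [Finset.sum_empty]
      have h1 := hφ' 0 0
      have h2 := hψ' 0 0
      rw [zero_smul, map_zero, zero_smul] at h1 h2
      rw [h1, h2]
    | insert p s hp ih => rw [Finset.sum_insert hp, hφ, hψ, hφ', hψ', h, ih]
  rw [eq_sum_vec ℓ u]
  exact key Finset.univ

/-- **The model.** -/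
theorem mpair (hs : Sc σ ε η τ) (hη1 : η * σ η = 1) (hS : ∀ a b, ℓ a ≠ ℓ b → S a b = 0) (hinv : IsUnit S)
    (hsym : ∀ a b, ℓ a = ℓ b → S b a = ε * σ (η ^ (ℓ a - 1)) * σ (S a b)) :
    Pair σ ε η (mform ℓ S σ η) (mnil F ℓ) where
  add_left := mform_add_left ℓ S
  smul_left := mform_smul_left ℓ S
  symm u v := by
    refine mform_ext ℓ (fun u => mform ℓ S σ η v u) (fun u => ε * σ (mform ℓ S σ η u v))
      (fun u u' => mform_add_right ℓ S v u u')
      (fun u u' => by simp only [mform_add_left, map_add, mul_add]) σ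
      (fun c u => by rw [mform_smul_right, smul_eq_mul])
      (fun c u => by rw [mform_smul_left, map_mul, smul_eq_mul]; ring) (fun a j => ?_) u
    refine mform_ext ℓ (fun v => mform ℓ S σ η v (vec F ℓ a j)) (fun v => ε * σ (mform ℓ S σ η (vec F ℓ a j) v))
      (fun u u' => mform_add_left ℓ S u u' _)
      (fun u u' => by simp only [mform_add_right, map_add, mul_add]) (RingHom.id F)
      (fun c u => by rw [mform_smul_left, smul_eq_mul, RingHom.id_apply])
      (fun c u => by rw [mform_smul_right, map_mul, hs.invol, smul_eq_mul, RingHom.id_apply]; ring)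
      (fun b l => ?_) v
    simp only [mform_vec ℓ S hS]
    by_cases hab : ℓ a = ℓ b
    · by_cases hjl : l + j + 1 = ℓ a
      · rw [if_pos hjl, if_pos (by omega), hsym a b hab, map_mul, ← hjl, Nat.add_sub_cancel, pow_add, map_mul]
        have h1 : η ^ l * σ (η ^ l) = 1 := by
          rw [map_pow, ← mul_pow, hη1, one_pow]
        linear_combination (ε * σ (η ^ j) * σ (S a b)) * h1
      · rw [if_neg hjl, if_neg (by omega), map_zero, mul_zero]
    · rw [hS a b hab, hS b a (Ne.symm hab)]
      simp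
  adj u v := by
    refine mform_ext ℓ (fun u => mform ℓ S σ η (mnil F ℓ u) v) (fun u => η * mform ℓ S σ η u (mnil F ℓ v))
      (fun u u' => by rw [map_add, mform_add_left])
      (fun u u' => by rw [mform_add_left, mul_add]) (RingHom.id F)
      (fun c u => by rw [map_smul, mform_smul_left, smul_eq_mul, RingHom.id_apply])
      (fun c u => by rw [mform_smul_left, smul_eq_mul, RingHom.id_apply]; ring) (fun a j => ?_) u
    refine mform_ext ℓ (fun v => mform ℓ S σ η (mnil F ℓ (vec F ℓ a j)) v)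
      (fun v => η * mform ℓ S σ η (vec F ℓ a j) (mnil F ℓ v))
      (fun u u' => mform_add_right ℓ S _ u u')
      (fun u u' => by rw [map_add, mform_add_right, mul_add]) σ
      (fun c u => by rw [mform_smul_right, smul_eq_mul])
      (fun c u => by rw [map_smul, mform_smul_right, smul_eq_mul]; ring) (fun b l => ?_) v
    rw [mnil_vec, mnil_vec, mform_vec ℓ S hS, mform_vec ℓ S hS]
    by_cases hjl : j + (l + 1) + 1 = ℓ b
    · rw [if_pos hjl, if_pos (by omega), pow_succ]
      ring
    · rw [if_neg hjl, if_neg (by omega), mul_zero]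
  nondeg u hu := by
    funext ⟨a₀, j₀⟩
    let c : ι → F := fun a => if h : (j₀ : ℕ) < ℓ a then u ⟨a, ⟨j₀, h⟩⟩ else 0
    have hc : c = 0 := by
      have hvm : Matrix.vecMul c S = 0 := by
        ext b
        rw [Matrix.vecMul, dotProduct, Pi.zero_apply]
        by_cases hb : (j₀ : ℕ) < ℓ b
        · obtain ⟨l, hl⟩ := Nat.exists_eq_add_of_lt hb
          have h1 := hu (vec F ℓ b l)
          have h2 : mform ℓ S σ η u (vec F ℓ b l) = η ^ (j₀ : ℕ) * ∑ a, c a * S a b := by
            have h3 : mform ℓ S σ η u (vec F ℓ b l) = ∑ p, u p * mform ℓ S σ η (vec F ℓ p.1 p.2) (vec F ℓ b l) := by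
              have h4 : ∀ s : Finset ((a : ι) × Fin (ℓ a)), mform ℓ S σ η (∑ p ∈ s, u p • vec F ℓ p.1 p.2)
                  (vec F ℓ b l) = ∑ p ∈ s, u p * mform ℓ S σ η (vec F ℓ p.1 p.2) (vec F ℓ b l) := by
                intro s
                induction s using Finset.induction_on with
                | empty =>
                  rw [Finset.sum_empty, Finset.sum_empty]
                  have := mform_smul_left ℓ S (σ := σ) (η := η) 0 0 (vec F ℓ b l)
                  rwa [zero_smul, zero_mul] at this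
                | insert p s hp ih =>
                  rw [Finset.sum_insert hp, Finset.sum_insert hp, mform_add_left, mform_smul_left, ih]
              rw [← h4 Finset.univ, ← eq_sum_vec]
            rw [h3, Fintype.sum_sigma, Finset.mul_sum]
            refine Finset.sum_congr rfl fun a _ => ?_
            simp only [mform_vec ℓ S hS]
            by_cases hab : ℓ a = ℓ b
            · have hja : (j₀ : ℕ) < ℓ a := by omega
              rw [Finset.sum_eq_single ⟨j₀, hja⟩]
              · rw [if_pos (by simp only; omega)]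
                simp only [c]
                rw [dif_pos hja]
                ring
              · intro j _ hj
                have : (j : ℕ) ≠ j₀ := fun hcon => hj (Fin.ext hcon)
                rw [if_neg (by omega), mul_zero]
              · intro hcon; exact absurd (Finset.mem_univ _) hcon
            · rw [hS a b hab]
              simp
          rw [h2] at h1
          exact (mul_eq_zero.1 h1).resolve_left (pow_ne_zero _ hs.eta)
        · refine Finset.sum_eq_zero fun a _ => ?_
          by_cases hab : ℓ a = ℓ b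
          · simp only [c]
            rw [dif_neg (by omega), zero_mul]
          · rw [hS a b hab, mul_zero]
      exact Matrix.vecMul_injective_iff_isUnit.2 hinv (hvm.trans (Matrix.zero_vecMul S).symm)
    have h6 := congrFun hc a₀
    simp only [c, Pi.zero_apply] at h6
    rw [dif_pos j₀.2] at h6
    exact h6

theorem mnb (hpos : ∀ a, 0 < ℓ a) (hS : ∀ a b, ℓ a ≠ ℓ b → S a b = 0) (hinv : IsUnit S) :
    IsNB (mform ℓ S σ η) (mnil F ℓ) ℓ S (fun a => vec F ℓ a 0) := by
  refine ⟨hpos, ?_, ?_, hS, hinv, ?_⟩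
  · intro a
    rw [mnil_pow_vec, vec, dif_neg (by omega)]
  · intro a b j
    rw [mnil_pow_vec, mform_vec ℓ S hS]
    simp
  · rw [eq_top_iff]
    intro u _
    rw [eq_sum_vec ℓ u]
    refine Submodule.sum_mem _ fun p _ => Submodule.smul_mem _ _ (Submodule.subset_span ⟨p, ?_⟩)
    show (mnil F ℓ ^ (p.2 : ℕ)) (vec F ℓ p.1 0) = _
    rw [mnil_pow_vec, zero_add]

end Model

end Cfsg.Agent.H194.NilForm
end

-- part: H194/NilFormD
section
/-!
# Congruence of Gram blocks

* `Cg σ A B` : `A = M * B * (σ M)ᵀ` with `M` invertible (square or not);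
* `exists_isometry_of_blocks` : congruent blocks give equivariant isometries;
* `cg_symm`, `cg_alt` : symmetric matrices over finite fields of odd characteristic, alternating matrices.
-/

set_option autoImplicit false

namespace Cfsg.Agent.H194.NilForm

open Module

/-- congruence of Gram matrices -/
def Cg {F : Type*} [Field F] (σ : F →+* F) {κ κ' : Type*} [Fintype κ] [Fintype κ'] [DecidableEq κ]
    [DecidableEq κ'] (A : Matrix κ κ F) (B : Matrix κ' κ' F) : Prop :=
  ∃ (M : Matrix κ κ' F) (L : Matrix κ' κ F), M * L = 1 ∧ L * M = 1 ∧ A = M * B * (M.map σ).transpose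

theorem sum_block {ι : Type*} [Fintype ι] {ℓ : ι → ℕ} {F : Type*} [AddCommMonoid F] {φ : ι → F} {i : ℕ}
    (h : ∀ b, ℓ b ≠ i → φ b = 0) : ∑ b, φ b = ∑ b : {b // ℓ b = i}, φ b := by
  classical
  rw [← Finset.sum_subtype (Finset.univ.filter fun c => ℓ c = i) (by simp) φ, Finset.sum_filter]
  refine Finset.sum_congr rfl fun c _ => ?_
  split_ifs with hc
  · rfl
  · exact h c hc

section Global

variable {F : Type*} [Field F] {σ : F →+* F} {ι ι' : Type*} [Fintype ι] [DecidableEq ι] [Fintype ι'] [DecidableEq ι']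
  {ℓ : ι → ℕ} {ℓ' : ι' → ℕ} {S : Matrix ι ι F} {S' : Matrix ι' ι' F}

/-- assembling block congruences -/
theorem exists_global (hS : ∀ a b, ℓ a ≠ ℓ b → S a b = 0) (hS' : ∀ a b, ℓ' a ≠ ℓ' b → S' a b = 0)
    (hpos : ∀ a, 0 < ℓ a) (hpos' : ∀ a, 0 < ℓ' a)
    (h : ∀ i, 0 < i → Cg σ (S.toSquareBlock ℓ i) (S'.toSquareBlock ℓ' i)) :
    ∃ (M : Matrix ι ι' F) (L : Matrix ι' ι F), M * L = 1 ∧ L * M = 1 ∧ (∀ a b, M a b ≠ 0 → ℓ a = ℓ' b) ∧
      S = M * S' * (M.map σ).transpose := by
  have h' : ∀ i, ∃ (M : Matrix {a // ℓ a = i} {b // ℓ' b = i} F) (L : Matrix {b // ℓ' b = i} {a // ℓ a = i} F),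
      M * L = 1 ∧ L * M = 1 ∧
      S.toSquareBlock ℓ i = M * S'.toSquareBlock ℓ' i * (M.map σ).transpose := by
    intro i
    rcases Nat.eq_zero_or_pos i with rfl | hi
    · have : IsEmpty {a // ℓ a = 0} := ⟨fun a => (hpos a).ne' a.2⟩
      have : IsEmpty {a // ℓ' a = 0} := ⟨fun a => (hpos' a).ne' a.2⟩
      exact ⟨0, 0, Subsingleton.elim _ _, Subsingleton.elim _ _, Subsingleton.elim _ _⟩
    · exact h i hi
  choose M L hML hLM hMS using h'
  let M₀ : Matrix ι ι' F := Matrix.of fun a b => if h : ℓ' b = ℓ a then M (ℓ a) ⟨a, rfl⟩ ⟨b, h⟩ else 0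
  let L₀ : Matrix ι' ι F := Matrix.of fun b a => if h : ℓ' b = ℓ a then L (ℓ a) ⟨b, h⟩ ⟨a, rfl⟩ else 0
  have hM₀ : ∀ i (a : {a // ℓ a = i}) (b : {b // ℓ' b = i}), M₀ a b = M i a b := by
    rintro i ⟨a, rfl⟩ ⟨b, hb⟩
    exact dif_pos hb
  have hL₀ : ∀ i (a : {a // ℓ a = i}) (b : {b // ℓ' b = i}), L₀ b a = L i b a := by
    rintro i ⟨a, rfl⟩ ⟨b, hb⟩
    exact dif_pos hb
  have hM₀' : ∀ a b, ℓ' b ≠ ℓ a → M₀ a b = 0 := fun a b hab => dif_neg hab
  have hL₀' : ∀ a b, ℓ' b ≠ ℓ a → L₀ b a = 0 := fun a b hab => dif_neg hab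
  refine ⟨M₀, L₀, ?_, ?_, ?_, ?_⟩
  · ext a a'
    rw [Matrix.mul_apply, sum_block (ℓ := ℓ') (i := ℓ a) (fun b hb => by rw [hM₀' a b hb, zero_mul])]
    by_cases haa : ℓ a' = ℓ a
    · have h1 := congrFun (congrFun (hML (ℓ a)) ⟨a, rfl⟩) ⟨a', haa⟩
      rw [Matrix.mul_apply, Matrix.one_apply] at h1
      rw [Matrix.one_apply]
      simp only [Subtype.mk.injEq] at h1
      rw [← h1]
      refine Finset.sum_congr rfl fun b _ => ?_
      rw [← hM₀ (ℓ a) ⟨a, rfl⟩ b, ← hL₀ (ℓ a) ⟨a', haa⟩ b]
    · rw [Matrix.one_apply_ne (fun hcon => haa (by rw [hcon]))]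
      refine Finset.sum_eq_zero fun b _ => ?_
      rw [hL₀' a' b (by rw [b.2]; exact fun hcon => haa hcon.symm), mul_zero]
  · ext b b'
    rw [Matrix.mul_apply, sum_block (ℓ := ℓ) (i := ℓ' b) (fun a ha => by
      rw [hL₀' a b (fun hcon => ha hcon.symm), zero_mul])]
    by_cases hbb : ℓ' b' = ℓ' b
    · have h1 := congrFun (congrFun (hLM (ℓ' b)) ⟨b, rfl⟩) ⟨b', hbb⟩
      rw [Matrix.mul_apply, Matrix.one_apply] at h1
      rw [Matrix.one_apply]
      simp only [Subtype.mk.injEq] at h1
      rw [← h1]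
      refine Finset.sum_congr rfl fun a _ => ?_
      rw [← hL₀ (ℓ' b) a ⟨b, rfl⟩, ← hM₀ (ℓ' b) a ⟨b', hbb⟩]
    · rw [Matrix.one_apply_ne (fun hcon => hbb (by rw [hcon]))]
      refine Finset.sum_eq_zero fun a _ => ?_
      rw [hM₀' a b' (by rw [a.2]; exact hbb), mul_zero]
  · intro a b hab
    by_contra hcon
    exact hab (hM₀' a b (fun h => hcon h.symm))
  · ext a a'
    rw [Matrix.mul_apply]
    simp only [Matrix.mul_apply, Matrix.transpose_apply, Matrix.map_apply]
    by_cases haa : ℓ a' = ℓ a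
    · have h1 := congrFun (congrFun (hMS (ℓ a)) ⟨a, rfl⟩) ⟨a', haa⟩
      rw [Matrix.mul_apply] at h1
      simp only [Matrix.mul_apply, Matrix.transpose_apply, Matrix.map_apply, Matrix.toSquareBlock_def,
        Matrix.of_apply] at h1
      rw [h1, sum_block (ℓ := ℓ') (i := ℓ a) (fun b hb => by
        rw [hM₀' a' b (by rw [haa]; exact hb), map_zero, mul_zero])]
      refine Finset.sum_congr rfl fun b _ => ?_
      rw [sum_block (ℓ := ℓ') (i := ℓ a) (fun c hc => by rw [hM₀' a c hc, zero_mul]),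
        ← hM₀ (ℓ a) ⟨a', haa⟩ b]
      congr 1
      refine Finset.sum_congr rfl fun c _ => ?_
      rw [← hM₀ (ℓ a) ⟨a, rfl⟩ c]
    · rw [hS a a' (fun hcon => haa hcon.symm)]
      symm
      refine Finset.sum_eq_zero fun b _ => ?_
      by_cases hb : ℓ' b = ℓ a'
      · rw [Finset.sum_eq_zero, zero_mul]
        intro c _
        by_cases hc : ℓ' c = ℓ a
        · rw [hS' c b, mul_zero]
          intro hcon
          exact haa (by rw [← hb, ← hcon, hc])
        · rw [hM₀' a c hc, zero_mul]
      · rw [hM₀' a' b hb, map_zero, mul_zero]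

variable {ε η : F} {V : Type*} [AddCommGroup V] [Module F V] {f : V → V → F} {N : V →ₗ[F] V}
  {V' : Type*} [AddCommGroup V'] [Module F V'] {f' : V' → V' → F} {N' : V' →ₗ[F] V'}

/-- **Congruent Gram blocks give an equivariant isometry.** -/
theorem exists_isometry_of_blocks (h : Pair σ ε η f N) (h' : Pair σ ε η f' N') (hη : η ≠ 0) {x : ι → V}
    {x' : ι' → V'} (hx : IsNB f N ℓ S x) (hx' : IsNB f' N' ℓ' S' x')
    (hc : ∀ i, 0 < i → Cg σ (S.toSquareBlock ℓ i) (S'.toSquareBlock ℓ' i)) :
    ∃ e : V ≃ₗ[F] V', (∀ u v, f' (e u) (e v) = f u v) ∧ ∀ v, e (N v) = N' (e v) := by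
  obtain ⟨M, L, hML, hLM, hM, hMS⟩ := exists_global hx.blk hx'.blk hx.pos hx'.pos hc
  have h1 := hx'.change h' hML hLM hM
  rw [← hMS] at h1
  exact exists_isometry h hη hx h' h1

end Global

section Bilin

variable {F : Type*} [Field F] {κ κ' : Type*} [Fintype κ] [Fintype κ'] [DecidableEq κ] [DecidableEq κ']

theorem cg_of_equiv {A : Matrix κ κ F} {B : Matrix κ' κ' F} (e : (κ → F) ≃ₗ[F] (κ' → F))
    (he : ∀ x y, Matrix.toBilin' B (e x) (e y) = Matrix.toBilin' A x y) : Cg (RingHom.id F) A B := by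
  have h1 : LinearMap.toMatrix' (e.symm : (κ' → F) →ₗ[F] (κ → F)) * LinearMap.toMatrix' (e : (κ → F) →ₗ[F] (κ' → F)) = 1 := by
    rw [← LinearMap.toMatrix'_comp, LinearEquiv.comp_coe, LinearEquiv.self_trans_symm, LinearEquiv.refl_toLinearMap,
      LinearMap.toMatrix'_id]
  have h2 : LinearMap.toMatrix' (e : (κ → F) →ₗ[F] (κ' → F)) * LinearMap.toMatrix' (e.symm : (κ' → F) →ₗ[F] (κ → F)) = 1 := by
    rw [← LinearMap.toMatrix'_comp, LinearEquiv.comp_coe, LinearEquiv.symm_trans_self, LinearEquiv.refl_toLinearMap,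
      LinearMap.toMatrix'_id]
  refine ⟨(LinearMap.toMatrix' (e : (κ → F) →ₗ[F] (κ' → F))).transpose,
    (LinearMap.toMatrix' (e.symm : (κ' → F) →ₗ[F] (κ → F))).transpose, ?_, ?_, ?_⟩
  · rw [← Matrix.transpose_mul, h1, Matrix.transpose_one]
  · rw [← Matrix.transpose_mul, h2, Matrix.transpose_one]
  · have h3 : (Matrix.map (LinearMap.toMatrix' (e : (κ → F) →ₗ[F] (κ' → F))).transpose (RingHom.id F)).transpose =
        LinearMap.toMatrix' (e : (κ → F) →ₗ[F] (κ' → F)) := by
      ext a b; rfl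
    rw [h3]
    have h4 : (Matrix.toBilin' B).comp (e : (κ → F) →ₗ[F] (κ' → F)) (e : (κ → F) →ₗ[F] (κ' → F)) =
        Matrix.toBilin' A := by
      ext x y
      simp only [LinearMap.BilinForm.comp_apply, LinearMap.coe_comp, Function.comp_apply, LinearMap.coe_single,
        LinearEquiv.coe_coe, he]
    have h5 := congrArg LinearMap.BilinForm.toMatrix' h4
    rw [LinearMap.BilinForm.toMatrix'_comp, LinearMap.BilinForm.toMatrix'_toBilin',
      LinearMap.BilinForm.toMatrix'_toBilin'] at h5
    exact h5.symm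

theorem nondeg_of_isUnit {A : Matrix κ κ F} (hA : IsUnit A) : (Matrix.toBilin' A).Nondegenerate := by
  apply LinearMap.BilinForm.nondegenerate_toBilin'_of_det_ne_zero'
  exact ((Matrix.isUnit_iff_isUnit_det A).1 hA).ne_zero

theorem isSymm_toBilin' {C : Matrix κ κ F} (hC : C.transpose = C) : (Matrix.toBilin' C).IsSymm := by
  refine ⟨fun x y => ?_⟩
  rw [Matrix.toBilin'_apply', Matrix.toBilin'_apply', Matrix.dotProduct_mulVec, ← Matrix.mulVec_transpose, hC]
  exact dotProduct_comm _ _

theorem toMatrix_basisFun (C : Matrix κ κ F) :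
    LinearMap.BilinForm.toMatrix (Pi.basisFun F κ) (Matrix.toBilin' C) = C := by
  ext i j
  rw [LinearMap.BilinForm.toMatrix_apply, Pi.basisFun_apply, Pi.basisFun_apply, Matrix.toBilin'_single]

/-- symmetric matrices over a finite field of odd characteristic -/
theorem cg_symm [Finite F] (h2 : (2 : F) ≠ 0) {A : Matrix κ κ F} {B : Matrix κ' κ' F} (hA : A.transpose = A)
    (hB : B.transpose = B) (hAu : IsUnit A) (hBu : IsUnit B) (hcard : Fintype.card κ = Fintype.card κ') {s : F}
    (hdet : B.det = s ^ 2 * A.det) : Cg (RingHom.id F) A B := by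
  classical
  obtain ⟨c, hc0, hc⟩ : ∃ c : κ → F, (∀ i, c i ≠ 0) ∧ ∏ i, c i = A.det := by
    have hA0 : A.det ≠ 0 := ((Matrix.isUnit_iff_isUnit_det A).1 hAu).ne_zero
    rcases isEmpty_or_nonempty κ with hκ | ⟨⟨i₀⟩⟩
    · exact ⟨fun _ => 1, fun i => hκ.elim i, by simp⟩
    · refine ⟨fun i => if i = i₀ then A.det else 1, fun i => ?_, ?_⟩
      · dsimp only
        split_ifs
        · exact hA0
        · exact one_ne_zero
      · rw [Finset.prod_ite_eq']
        simp
  obtain ⟨v₁, hv₁⟩ := Cfsg.Agent.ClassicalGeometry.Discriminant.exists_basis_diag h2 (Matrix.toBilin' A)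
    (isSymm_toBilin' hA) (nondeg_of_isUnit hAu) (Pi.basisFun F κ) c (by simp) hc0 1
    (by rw [toMatrix_basisFun, hc]; ring)
  obtain ⟨v₂, hv₂⟩ := Cfsg.Agent.ClassicalGeometry.Discriminant.exists_basis_diag h2 (Matrix.toBilin' B)
    (isSymm_toBilin' hB) (nondeg_of_isUnit hBu) (Pi.basisFun F κ') c (by simp [hcard]) hc0 s
    (by rw [toMatrix_basisFun, hc, hdet])
  apply cg_of_equiv (v₁.equiv v₂ (Equiv.refl κ))
  intro x y
  have h1 : (Matrix.toBilin' B).comp (v₁.equiv v₂ (Equiv.refl κ) : (κ → F) →ₗ[F] (κ' → F))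
      (v₁.equiv v₂ (Equiv.refl κ) : (κ → F) →ₗ[F] (κ' → F)) = Matrix.toBilin' A := by
    apply LinearMap.BilinForm.ext_basis v₁
    intro i j
    rw [LinearMap.BilinForm.comp_apply, LinearEquiv.coe_coe, Basis.equiv_apply, Basis.equiv_apply, hv₁]
    exact hv₂ i j
  exact congrArg (fun T : LinearMap.BilinForm F (κ → F) => T x y) h1

theorem isAlt_toBilin' (h2 : (2 : F) ≠ 0) {C : Matrix κ κ F} (hC : C.transpose = -C) :
    (Matrix.toBilin' C).IsAlt := by
  intro x
  have h1 : Matrix.toBilin' C x x = - Matrix.toBilin' C x x := by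
    conv_lhs => rw [Matrix.toBilin'_apply', Matrix.dotProduct_mulVec, ← Matrix.mulVec_transpose, hC,
      Matrix.neg_mulVec, neg_dotProduct, dotProduct_comm]
    rw [Matrix.toBilin'_apply']
  have h3 : (2 : F) * Matrix.toBilin' C x x = 0 := by linear_combination h1
  exact (mul_eq_zero.1 h3).resolve_left h2

/-- non-degenerate alternating forms live in even dimension -/
theorem even_of_isAlt {V : Type*} [AddCommGroup V] [Module F V] [FiniteDimensional F V]
    (B : LinearMap.BilinForm F V) (hA : B.IsAlt) (hnd : ∀ u, (∀ v, B u v = 0) → u = 0) :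
    ∃ k, finrank F V = 2 * k := by
  obtain ⟨m, l, b, h1, h2, h3, h4⟩ := Cfsg.Agent.S0752.result B hA
  have hl : l = 0 := by
    by_contra hl
    have := hnd _ (h4 ⟨0, Nat.pos_of_ne_zero hl⟩)
    exact b.ne_zero _ this
  subst hl
  refine ⟨m, ?_⟩
  have := Module.finrank_eq_card_basis b
  simp at this
  omega

theorem even_card_of_alt (h2 : (2 : F) ≠ 0) {A : Matrix κ κ F} (hA : A.transpose = -A) (hAu : IsUnit A) :
    ∃ k, Fintype.card κ = 2 * k := by
  obtain ⟨k, hk⟩ := even_of_isAlt (Matrix.toBilin' A) (isAlt_toBilin' h2 hA)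
    (fun u hu => (nondeg_of_isUnit hAu).1 u hu)
  exact ⟨k, by simpa using hk⟩

/-- alternating matrices -/
theorem cg_alt (h2 : (2 : F) ≠ 0) {A : Matrix κ κ F} {B : Matrix κ' κ' F} (hA : A.transpose = -A)
    (hB : B.transpose = -B) (hAu : IsUnit A) (hBu : IsUnit B) (hcard : Fintype.card κ = Fintype.card κ') :
    Cg (RingHom.id F) A B := by
  obtain ⟨k, hk⟩ := even_card_of_alt h2 hA hAu
  obtain ⟨e₁, he₁⟩ := Cfsg.Agent.ClassicalGeometry.SympIso.exists_linearEquiv_sympForm (Matrix.toBilin' A)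
    (isAlt_toBilin' h2 hA) (fun u hu => (nondeg_of_isUnit hAu).1 u hu) (k := k) (by simpa using hk)
  obtain ⟨e₂, he₂⟩ := Cfsg.Agent.ClassicalGeometry.SympIso.exists_linearEquiv_sympForm (Matrix.toBilin' B)
    (isAlt_toBilin' h2 hB) (fun u hu => (nondeg_of_isUnit hBu).1 u hu) (k := k) (by simpa [← hcard] using hk)
  apply cg_of_equiv (e₁.symm.trans e₂)
  intro x y
  rw [LinearEquiv.trans_apply, LinearEquiv.trans_apply, he₂, ← he₁, e₁.apply_symm_apply, e₁.apply_symm_apply]

end Bilin

end Cfsg.Agent.H194.NilForm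
end
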