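import Mathlib
set_option linter.all false

/-!
Finite fields: embeddings of fields with given numbers of elements.
-/

set_option autoImplicit false

namespace Cfsg.Agent.H194.FieldExt

/-- A field with `q ^ d` elements (`d ≥ 1`) contains a copy of every field with `q` elements. -/
theorem nonempty_ringHom {K F : Type*} [Field K] [Fintype K] [Field F] [Fintype F] {q d : ℕ}
    (hd : d ≠ 0) (hK : Fintype.card K = q ^ d) (hF : Fintype.card F = q) :
    Nonempty (F →+* K) := by
  obtain ⟨p, hp⟩ := CharP.exists F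
  obtain ⟨n, hpp, hn⟩ := FiniteField.card F p
  obtain ⟨p', hp'⟩ := CharP.exists K
  obtain ⟨n', hpp', hn'⟩ := FiniteField.card K p'
  have hpe : p = p' := by
    have h1 : p ^ ((n : ℕ) * d) = p' ^ (n' : ℕ) := by
      rw [pow_mul, ← hn, hF, ← hn', hK]
    have : p ∣ p' ^ (n' : ℕ) := by
      rw [← h1]; exact dvd_pow_self p (Nat.mul_ne_zero n.pos.ne' hd)
    exact (Nat.prime_dvd_prime_iff_eq hpp hpp').1 (hpp.dvd_of_dvd_pow this)
  subst hpe
  have : Fact p.Prime := ⟨hpp⟩
  let _ : Algebra (ZMod p) F := ZMod.algebra F p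
  let _ : Algebra (ZMod p) K := ZMod.algebra K p
  have h1 : Fintype.card F = p ^ Module.finrank (ZMod p) F := by
    rw [Module.card_eq_pow_finrank (K := ZMod p), ZMod.card]
  have h2 : Fintype.card K = p ^ Module.finrank (ZMod p) K := by
    rw [Module.card_eq_pow_finrank (K := ZMod p), ZMod.card]
  have h3 : Module.finrank (ZMod p) K = Module.finrank (ZMod p) F * d := by
    apply Nat.pow_right_injective hpp.two_le
    show p ^ _ = p ^ _
    rw [← h2, pow_mul, ← h1, hK, hF]
  obtain ⟨f⟩ := FiniteField.nonempty_algHom_of_finrank_dvd (F := ZMod p) (K := F) (L := K) ⟨d, h3⟩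
  exact ⟨f.toRingHom⟩

/-- With an algebra structure, the degree is `d`. -/
theorem finrank_eq {K F : Type*} [Field K] [Fintype K] [Field F] [Fintype F] [Algebra F K] {q d : ℕ}
    (hK : Fintype.card K = q ^ d) (hF : Fintype.card F = q) :
    Module.finrank F K = d := by
  have h := Module.card_eq_pow_finrank (K := F) (V := K)
  rw [hK, hF] at h
  exact (Nat.pow_right_injective (hF ▸ Fintype.one_lt_card (α := F) : 2 ≤ q) h).symm

end Cfsg.Agent.H194.FieldExt
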